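import Cfsg.Agent.Lib.Blocks.Knorr
import Cfsg.Agent.Lib.Char.GaloisConj
import Mathlib.Data.ZMod.Units
import Mathlib.GroupTheory.GroupAction.Quotient

/-!
# p-conjugate characters: the group of exponents, traces, and the orbit bound
-/

set_option autoImplicit false

namespace CfsgLib.PConjugate

open scoped Classical ComplexConjugate
open Cfsg CfsgLib.BlockReg

universe u

variable {G : Type u} [Group G] [Finite G]

instance instNeZeroCard : NeZero (Nat.card G) := ⟨Nat.card_pos.ne'⟩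

theorem pow_val_mul (u v : (ZMod (Nat.card G))ˣ) (g : G) :
    g ^ (u * v).val.val = (g ^ u.val.val) ^ v.val.val := by
  rw [← pow_mul, Units.val_mul, ZMod.val_mul]
  exact pow_mod_natCard g _

/-- Powers prime to the group order act on the irreducible characters. -/
noncomputable instance galoisAction : MulAction (ZMod (Nat.card G))ˣ (IrrCharacter G) where
  smul u χ := CfsgLib.CharGalois.powIrr (ZMod.val_coe_unit_coprime u) χ
  one_smul χ := Subtype.ext (funext fun g => by
    show (χ : G → ℂ) (g ^ ((1 : (ZMod (Nat.card G))ˣ) : ZMod (Nat.card G)).val) = (χ : G → ℂ) g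
    rcases Nat.lt_or_ge (Nat.card G) 2 with h | h
    · have h1 : Nat.card G = 1 := by have := Nat.card_pos (α := G); omega
      haveI := (Nat.card_eq_one_iff_unique.1 h1).1
      exact congrArg _ (Subsingleton.elim _ _)
    · haveI : Fact (1 < Nat.card G) := ⟨h⟩
      rw [Units.val_one, ZMod.val_one, pow_one])
  mul_smul u v χ := Subtype.ext (funext fun g => by
    show (χ : G → ℂ) (g ^ (u * v).val.val) = (χ : G → ℂ) ((g ^ u.val.val) ^ v.val.val)
    rw [pow_val_mul])

theorem smul_apply (u : (ZMod (Nat.card G))ˣ) (χ : IrrCharacter G) (g : G) :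
    (u • χ : IrrCharacter G).1 g = (χ : G → ℂ) (g ^ (u : ZMod (Nat.card G)).val) := rfl

variable {p : ℕ}

/-- The `p'`-part of the group order. -/
noncomputable def pPrimePart (p : ℕ) (G : Type*) [Group G] : ℕ :=
  Nat.card G / p ^ (Nat.card G).factorization p

theorem pow_mul_pPrimePart :
    p ^ (Nat.card G).factorization p * pPrimePart p G = Nat.card G :=
  Nat.ordProj_mul_ordCompl_eq_self _ _

theorem pPrimePart_dvd : pPrimePart p G ∣ Nat.card G :=
  Dvd.intro_left _ pow_mul_pPrimePart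

theorem pow_dvd_natCard : p ^ (Nat.card G).factorization p ∣ Nat.card G :=
  Dvd.intro _ pow_mul_pPrimePart

/-- The exponents fixing the roots of unity of order prime to `p`. -/
noncomputable def exponents (p : ℕ) (G : Type u) [Group G] [Finite G] :
    Subgroup (ZMod (Nat.card G))ˣ :=
  (ZMod.unitsMap (pPrimePart_dvd (p := p) (G := G))).ker

theorem mem_exponents_iff (u : (ZMod (Nat.card G))ˣ) :
    u ∈ exponents p G ↔ (u : ZMod (Nat.card G)).val % pPrimePart p G = 1 % pPrimePart p G := by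
  rw [exponents, MonoidHom.mem_ker, Units.ext_iff, Units.val_one]
  show (ZMod.castHom (pPrimePart_dvd (p := p) (G := G)) (ZMod (pPrimePart p G)))
    (u : ZMod (Nat.card G)) = 1 ↔ _
  conv_lhs => rw [← ZMod.natCast_zmod_val (u : ZMod (Nat.card G)), map_natCast, ← Nat.cast_one,
    ZMod.natCast_eq_natCast_iff']

variable [hp : Fact p.Prime]

theorem coprime_pPrimePart :
    Nat.Coprime (p ^ (Nat.card G).factorization p) (pPrimePart p G) :=
  Nat.Coprime.pow_left _ (Nat.coprime_ordCompl hp.out Nat.card_pos.ne')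

/-- Reduction of exponents modulo the `p`-part. -/
noncomputable def toPPart : exponents p G →* (ZMod (p ^ (Nat.card G).factorization p))ˣ :=
  (ZMod.unitsMap (pow_dvd_natCard (p := p) (G := G))).comp (exponents p G).subtype

theorem toPPart_bijective : Function.Bijective (toPPart (p := p) (G := G)) := by
  haveI : NeZero (p ^ (Nat.card G).factorization p) := ⟨pow_ne_zero _ hp.out.ne_zero⟩
  constructor
  · rw [← MonoidHom.ker_eq_bot_iff, eq_bot_iff]
    rintro ⟨u, hu⟩ hu'
    rw [Subgroup.mem_bot, Subtype.ext_iff, OneMemClass.coe_one, Units.ext_iff, Units.val_one]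
    rw [mem_exponents_iff] at hu
    rw [MonoidHom.mem_ker, Units.ext_iff, Units.val_one] at hu'
    have h1 : (ZMod.castHom (pow_dvd_natCard (p := p) (G := G))
        (ZMod (p ^ (Nat.card G).factorization p))) (u : ZMod (Nat.card G)) = 1 := hu'
    rw [← ZMod.natCast_zmod_val (u : ZMod (Nat.card G)), map_natCast, ← Nat.cast_one,
      ZMod.natCast_eq_natCast_iff'] at h1
    have h2 : (u : ZMod (Nat.card G)).val ≡ 1 [MOD Nat.card G] := by
      have h3 := (Nat.modEq_and_modEq_iff_modEq_mul (coprime_pPrimePart (p := p) (G := G))).1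
        ⟨h1, hu⟩
      rwa [pow_mul_pPrimePart] at h3
    rw [← ZMod.natCast_zmod_val (u : ZMod (Nat.card G)), ← Nat.cast_one,
      ZMod.natCast_eq_natCast_iff']
    exact h2
  · intro w
    obtain ⟨k, hk1, hk2⟩ := Nat.chineseRemainder (coprime_pPrimePart (p := p) (G := G))
      (w : ZMod (p ^ (Nat.card G).factorization p)).val 1
    have hk : k.Coprime (Nat.card G) := by
      rw [← pow_mul_pPrimePart (p := p) (G := G)]
      refine Nat.Coprime.mul_right ?_ ?_
      · have := Nat.ModEq.gcd_eq hk1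
        rw [Nat.coprime_iff_gcd_eq_one, this]
        exact ZMod.val_coe_unit_coprime w
      · have := Nat.ModEq.gcd_eq hk2
        simpa [Nat.coprime_iff_gcd_eq_one] using this
    refine ⟨⟨ZMod.unitOfCoprime k hk, ?_⟩, ?_⟩
    · rw [mem_exponents_iff, ZMod.coe_unitOfCoprime, ZMod.val_natCast]
      rw [Nat.mod_mod_of_dvd _ pPrimePart_dvd]
      exact hk2
    · refine Units.ext ?_
      show (ZMod.castHom (pow_dvd_natCard (p := p) (G := G))
        (ZMod (p ^ (Nat.card G).factorization p))) ((ZMod.unitOfCoprime k hk : (ZMod _)ˣ) : ZMod _) = _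
      rw [ZMod.coe_unitOfCoprime, map_natCast, ← ZMod.natCast_zmod_val
        (w : ZMod (p ^ (Nat.card G).factorization p)), ZMod.natCast_eq_natCast_iff']
      exact hk1

theorem card_exponents :
    Nat.card (exponents p G) = (p ^ (Nat.card G).factorization p).totient := by
  haveI : NeZero (p ^ (Nat.card G).factorization p) := ⟨pow_ne_zero _ hp.out.ne_zero⟩
  rw [Nat.card_eq_of_bijective _ toPPart_bijective, Nat.card_eq_fintype_card,
    ZMod.card_units_eq_totient]

/-- The sum of the primitive-exponent powers of a root of unity of `p`-power order. -/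
theorem sum_units_pow {a : ℕ} (ha : 0 < a) {η : ℂ} (hη : η ^ (p ^ a) = 1) :
    ∃ w : ℂ, IsIntegral ℤ w ∧
      ∑ u : (ZMod (p ^ a))ˣ, η ^ (u : ZMod (p ^ a)).val = (p : ℂ) ^ (a - 1) * w := by
  haveI : NeZero (p ^ a) := ⟨pow_ne_zero _ hp.out.ne_zero⟩
  obtain ⟨b, rfl⟩ : ∃ b, a = b + 1 := ⟨a - 1, by omega⟩
  rw [Nat.add_sub_cancel]
  have h1 : ∑ u : (ZMod (p ^ (b + 1)))ˣ, η ^ (u : ZMod (p ^ (b + 1))).val =
      ∑ j ∈ (Finset.range (p ^ (b + 1))).filter (fun j => ¬ p ∣ j), η ^ j := by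
    refine Finset.sum_bij (fun u _ => (u : ZMod (p ^ (b + 1))).val) (fun u _ => ?_)
      (fun u _ v _ h => Units.ext (ZMod.val_injective _ h)) (fun j hj => ?_) (fun u _ => rfl)
    · refine Finset.mem_filter.2 ⟨Finset.mem_range.2 (ZMod.val_lt _), ?_⟩
      rw [← hp.out.coprime_iff_not_dvd]
      exact (Nat.Coprime.coprime_dvd_right (dvd_pow_self p (by omega))
        (ZMod.val_coe_unit_coprime u)).symm
    · obtain ⟨hj1, hj2⟩ := Finset.mem_filter.1 hj
      refine ⟨ZMod.unitOfCoprime j ((hp.out.coprime_iff_not_dvd.2 hj2).symm.pow_right _),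
        Finset.mem_univ _, ?_⟩
      rw [ZMod.coe_unitOfCoprime, ZMod.val_natCast, Nat.mod_eq_of_lt (Finset.mem_range.1 hj1)]
  have h2 : ∑ j ∈ (Finset.range (p ^ (b + 1))).filter (fun j => p ∣ j), η ^ j =
      ∑ i ∈ Finset.range (p ^ b), (η ^ p) ^ i := by
    refine (Finset.sum_nbij' (fun i => p * i) (fun j => j / p) ?_ ?_ ?_ ?_ ?_).symm
    · intro i hi
      refine Finset.mem_filter.2 ⟨Finset.mem_range.2 ?_, dvd_mul_right p i⟩
      rw [pow_succ']
      exact Nat.mul_lt_mul_of_pos_left (Finset.mem_range.1 hi) hp.out.pos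
    · intro j hj
      obtain ⟨hj1, hj2⟩ := Finset.mem_filter.1 hj
      refine Finset.mem_range.2 (Nat.div_lt_of_lt_mul ?_)
      rw [← pow_succ']
      exact Finset.mem_range.1 hj1
    · intro i _; exact Nat.mul_div_cancel_left i hp.out.pos
    · intro j hj; exact Nat.mul_div_cancel' (Finset.mem_filter.1 hj).2
    · intro i _; rw [← pow_mul]
  have h3 := Finset.sum_filter_add_sum_filter_not (Finset.range (p ^ (b + 1))) (fun j => p ∣ j)
    (fun j => η ^ j)
  rw [h1, show ∑ j ∈ (Finset.range (p ^ (b + 1))).filter (fun j => ¬ p ∣ j), η ^ j =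
    ∑ j ∈ Finset.range (p ^ (b + 1)), η ^ j - ∑ i ∈ Finset.range (p ^ b), (η ^ p) ^ i by
      rw [← h3, h2, add_sub_cancel_left]]
  have hgeom : ∀ (c : ℕ) (z : ℂ), z ^ c = 1 →
      ∑ i ∈ Finset.range c, z ^ i = if z = 1 then (c : ℂ) else 0 := by
    intro c z hz
    split_ifs with hz1
    · simp [hz1]
    · rw [geom_sum_eq hz1, hz, sub_self, zero_div]
  rw [hgeom _ _ hη, hgeom _ _ (by rw [← pow_mul, ← pow_succ']; exact hη)]
  refine ⟨(if η = 1 then (p : ℂ) else 0) - (if η ^ p = 1 then 1 else 0), ?_, ?_⟩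
  · refine IsIntegral.sub ?_ ?_
    · split_ifs
      · exact isIntegral_algebraMap (R := ℤ) (x := (p : ℤ))
      · exact isIntegral_zero
    · split_ifs
      · exact isIntegral_one
      · exact isIntegral_zero
  · split_ifs <;> push_cast <;> ring

theorem sum_exponents_pow (ha : 0 < (Nat.card G).factorization p) {μ : ℂ}
    (hμ : μ ^ Nat.card G = 1) :
    ∃ w : ℂ, IsIntegral ℤ w ∧ ∑ u : exponents p G, μ ^ (u.1 : ZMod (Nat.card G)).val =
      (p : ℂ) ^ ((Nat.card G).factorization p - 1) * w := by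
  set a := (Nat.card G).factorization p
  set g' := pPrimePart p G
  have hN : p ^ a * g' = Nat.card G := pow_mul_pPrimePart
  obtain ⟨c, hc1, hc2⟩ := Nat.chineseRemainder (coprime_pPrimePart (p := p) (G := G)) 1 0
  obtain ⟨d, hd1, hd2⟩ := Nat.chineseRemainder (coprime_pPrimePart (p := p) (G := G)) 0 1
  obtain ⟨c', rfl⟩ := Nat.modEq_zero_iff_dvd.1 hc2
  obtain ⟨d', rfl⟩ := Nat.modEq_zero_iff_dvd.1 hd1
  set η := μ ^ (g' * c')
  set ν := μ ^ (p ^ a * d')
  have hη : η ^ (p ^ a) = 1 := by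
    rw [← pow_mul, show g' * c' * p ^ a = Nat.card G * c' by rw [← hN]; ring, pow_mul, hμ, one_pow]
  have hν : ν ^ g' = 1 := by
    rw [← pow_mul, show p ^ a * d' * g' = Nat.card G * d' by rw [← hN]; ring, pow_mul, hμ, one_pow]
  have hsplit : μ = η * ν := by
    rw [← pow_add]
    have h : g' * c' + p ^ a * d' ≡ 1 [MOD Nat.card G] := by
      rw [← hN, ← Nat.modEq_and_modEq_iff_modEq_mul coprime_pPrimePart]
      refine ⟨?_, ?_⟩
      · have := hc1.add hd1; rwa [add_zero] at this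
      · have := hc2.add hd2; rwa [zero_add] at this
    conv_lhs => rw [← pow_one μ]
    exact pow_eq_pow_of_modEq h.symm hμ
  haveI : NeZero (p ^ a) := ⟨pow_ne_zero _ hp.out.ne_zero⟩
  obtain ⟨w, hw, hsum⟩ := sum_units_pow (p := p) ha hη
  refine ⟨ν * w, IsIntegral.mul ?_ hw, ?_⟩
  · exact IsIntegral.of_pow (n := g') (Nat.pos_of_ne_zero (fun h0 => by
      rw [h0, mul_zero] at hN; exact Nat.card_pos.ne' hN.symm) ) (by rw [hν]; exact isIntegral_one)
  rw [mul_left_comm, ← hsum, Finset.mul_sum]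
  refine Fintype.sum_equiv (Equiv.ofBijective _ toPPart_bijective) _ _ fun u => ?_
  rw [hsplit, mul_pow, mul_comm, Equiv.ofBijective_apply]
  congr 1
  · refine (pow_eq_pow_of_modEq ?_ hν).trans (pow_one ν)
    exact (mem_exponents_iff u.1).1 u.2
  · refine pow_eq_pow_of_modEq ?_ hη
    show (u.1 : ZMod (Nat.card G)).val ≡ (ZMod.castHom (pow_dvd_natCard (p := p) (G := G))
      (ZMod (p ^ a)) (u.1 : ZMod (Nat.card G))).val [MOD p ^ a]
    conv_rhs => rw [← ZMod.natCast_zmod_val (u.1 : ZMod (Nat.card G)), map_natCast, ZMod.val_natCast]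
    exact (Nat.mod_modEq _ _).symm

/-- The trace of the character values over the exponents is divisible by `p ^ (a - 1)`. -/
theorem sum_exponents_apply (ha : 0 < (Nat.card G).factorization p) (χ : IrrCharacter G) (g : G) :
    ∃ w : ℂ, IsIntegral ℤ w ∧ ∑ u : exponents p G, (u.1 • χ : IrrCharacter G).1 g =
      (p : ℂ) ^ ((Nat.card G).factorization p - 1) * w := by
  obtain ⟨n, ρ, -, hρ⟩ := χ.2
  obtain ⟨μ, hμ, -, -, hpow⟩ := CfsgLib.Char.exists_eigenvalues ρ g
  have hN : ∀ i, μ i ^ Nat.card G = 1 := fun i => by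
    obtain ⟨c, hc⟩ := orderOf_dvd_natCard g
    rw [hc, pow_mul, hμ i, one_pow]
  choose w hw hws using fun i => sum_exponents_pow (p := p) ha (hN i)
  refine ⟨∑ i, w i, IsIntegral.sum _ fun i _ => hw i, ?_⟩
  simp only [smul_apply, ← hρ, hpow]
  rw [Finset.sum_comm, Finset.mul_sum]
  exact Finset.sum_congr rfl fun i _ => hws i

/-- A ring automorphism fixing the `p'`-roots of unity is an exponent, and conversely. -/
theorem exists_ringEquiv_iff (χ ψ : IrrCharacter G) :
    (∃ σ : ℂ ≃+* ℂ, σ (Complex.exp (2 * Real.pi * Complex.I / (pPrimePart p G : ℕ))) =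
        Complex.exp (2 * Real.pi * Complex.I / (pPrimePart p G : ℕ)) ∧
        (ψ : G → ℂ) = fun g => σ ((χ : G → ℂ) g)) ↔
      ψ ∈ MulAction.orbit (exponents p G) χ := by
  set N := Nat.card G
  set g' := pPrimePart p G
  have hg'0 : g' ≠ 0 := fun h0 => by
    have := pow_mul_pPrimePart (p := p) (G := G)
    rw [show pPrimePart p G = 0 from h0, mul_zero] at this
    exact Nat.card_pos.ne' this.symm
  have hN0 : N ≠ 0 := Nat.card_pos.ne'
  set ζ := Complex.exp (2 * Real.pi * Complex.I / (g' : ℕ))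
  have hζ : IsPrimitiveRoot ζ g' := Complex.isPrimitiveRoot_exp g' hg'0
  have hζN : ζ ^ N = 1 := by
    obtain ⟨c, hc⟩ := pPrimePart_dvd (p := p) (G := G)
    rw [show N = g' * c from hc, pow_mul, hζ.pow_eq_one, one_pow]
  have key : ∀ (σ : ℂ ≃+* ℂ) (k : ℕ), (∀ z : ℂ, z ^ N = 1 → σ z = z ^ k) → ∀ g,
      σ ((χ : G → ℂ) g) = (χ : G → ℂ) (g ^ k) := by
    intro σ k hσ g
    obtain ⟨n, ρ, -, hρ⟩ := χ.2
    obtain ⟨μ, hμ, -, -, hpow⟩ := CfsgLib.Char.exists_eigenvalues ρ g
    have h1 := hpow 1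
    simp only [pow_one] at h1
    rw [← hρ, hpow k, h1, map_sum]
    refine Finset.sum_congr rfl fun i _ => hσ _ ?_
    obtain ⟨c, hc⟩ := orderOf_dvd_natCard g
    rw [show N = orderOf g * c from hc, pow_mul, hμ, one_pow]
  constructor
  · rintro ⟨σ, hσζ, hψ⟩
    set ξ := Complex.exp (2 * Real.pi * Complex.I / (N : ℕ))
    have hξ : IsPrimitiveRoot ξ N := Complex.isPrimitiveRoot_exp N hN0
    have hσξ : IsPrimitiveRoot (σ ξ) N := hξ.map_of_injective σ.injective
    obtain ⟨i, -, hcop, hi⟩ := (hξ.isPrimitiveRoot_iff).1 hσξ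
    have hpow : ∀ z : ℂ, z ^ N = 1 → σ z = z ^ i := by
      intro z hz
      obtain ⟨j, -, rfl⟩ := hξ.eq_pow_of_pow_eq_one hz
      rw [map_pow, ← hi, ← pow_mul, ← pow_mul, mul_comm]
    refine ⟨⟨ZMod.unitOfCoprime i hcop, ?_⟩, ?_⟩
    · rw [mem_exponents_iff, ZMod.coe_unitOfCoprime, ZMod.val_natCast,
        Nat.mod_mod_of_dvd _ pPrimePart_dvd]
      have h1 : ζ ^ i = ζ ^ 1 := by rw [pow_one, ← hpow ζ hζN, hσζ]
      rw [(hζ.isOfFinOrder hg'0).pow_eq_pow_iff_modEq, ← hζ.eq_orderOf] at h1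
      exact h1
    · refine Subtype.ext (funext fun g => ?_)
      show (χ : G → ℂ) (g ^ ((ZMod.unitOfCoprime i hcop : (ZMod N)ˣ) : ZMod N).val) = _
      rw [ZMod.coe_unitOfCoprime, ZMod.val_natCast, pow_mod_natCard, hψ]
      exact (key σ i hpow g).symm
  · rintro ⟨u, rfl⟩
    obtain ⟨σ, hσ⟩ := CfsgLib.CharGalois.exists_ringEquiv_pow (n := N) (Nat.pos_of_ne_zero hN0)
      (ZMod.val_coe_unit_coprime u.1)
    refine ⟨σ, ?_, funext fun g => (key σ _ hσ g).symm⟩
    rw [hσ ζ hζN]
    conv_rhs => rw [← pow_one ζ]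
    exact pow_eq_pow_of_modEq ((mem_exponents_iff u.1).1 u.2) hζ.pow_eq_one

end CfsgLib.PConjugate
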