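import Cfsg.Agent.Lib.PConjugate.Basic

/-!
# The p-part of the number of p-conjugates times the degree
-/

set_option autoImplicit false

namespace CfsgLib.PConjugate

open scoped Classical ComplexConjugate
open Cfsg CfsgLib.BlockReg CfsgLib.Char

universe u

variable {G : Type u} [Group G] [Finite G] {p : ℕ} [hp : Fact p.Prime]

/-- A quotient of naturals in the local ring has enough `p` in its numerator. -/
theorem factorization_le_of_memRing {M : Ideal AlgInt} (hM : IsPModular p M) {n m : ℕ}
    (hn : n ≠ 0) (hm : m ≠ 0) (h : MemLocalRing M ((n : ℂ) / m)) :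
    m.factorization p ≤ n.factorization p := by
  by_contra hlt
  have h1 := natCast_div_memIdeal hM hn (not_le.1 hlt)
  have h2 := memIdeal_mul_left hM h h1
  rw [div_mul_div_comm, mul_comm (n : ℂ), div_self (mul_ne_zero (Nat.cast_ne_zero.2 hm)
    (Nat.cast_ne_zero.2 hn))] at h2
  exact not_memIdeal_one hM h2

/-- The characters `p`-conjugate to `χ`. -/
noncomputable def conjSet (p : ℕ) (χ : IrrCharacter G) : Finset (IrrCharacter G) :=
  Finset.univ.filter fun ψ => ψ ∈ MulAction.orbit (exponents p G) χ

omit hp in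
theorem mem_conjSet (χ ψ : IrrCharacter G) :
    ψ ∈ conjSet p χ ↔ ψ ∈ MulAction.orbit (exponents p G) χ := by simp [conjSet]

omit hp in
theorem card_conjSet (χ : IrrCharacter G) :
    (conjSet p χ).card = Nat.card (MulAction.orbit (exponents p G) χ) := by
  exact ((Nat.card_eq_fintype_card).trans (Fintype.card_subtype _)).symm

omit hp in
theorem apply_one_of_mem (χ : IrrCharacter G) {ψ : IrrCharacter G} (hψ : ψ ∈ conjSet p χ) :
    (ψ : G → ℂ) 1 = (χ : G → ℂ) 1 := by
  obtain ⟨u, rfl⟩ := (mem_conjSet χ ψ).1 hψ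
  show (χ : G → ℂ) (1 ^ _) = _
  rw [one_pow]

omit hp in
/-- The sum over the exponents is a multiple of the sum over the conjugates. -/
theorem sum_exponents_eq (χ : IrrCharacter G) (F : IrrCharacter G → ℂ) :
    ∑ u : exponents p G, F (u.1 • χ) =
      (Nat.card (MulAction.stabilizer (exponents p G) χ) : ℂ) * ∑ ψ ∈ conjSet p χ, F ψ := by
  rw [← Finset.sum_fiberwise_of_maps_to (s := (Finset.univ : Finset (exponents p G)))
    (g := fun u : exponents p G => u.1 • χ) (t := conjSet p χ)
    (fun u _ => (mem_conjSet χ _).2 ⟨u, rfl⟩), Finset.mul_sum]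
  refine Finset.sum_congr rfl fun ψ hψ => ?_
  obtain ⟨v, rfl⟩ := (mem_conjSet χ ψ).1 hψ
  have hcard : ((Finset.univ : Finset (exponents p G)).filter
      fun u => u.1 • χ = v • χ).card = Nat.card (MulAction.stabilizer (exponents p G) χ) := by
    rw [← Fintype.card_subtype, ← Nat.card_eq_fintype_card]
    refine Nat.card_congr (Equiv.subtypeEquiv (Equiv.mulLeft v⁻¹) fun u => ?_)
    rw [Equiv.coe_mulLeft, MulAction.mem_stabilizer_iff, mul_smul, inv_smul_eq_iff]
    rfl
  rw [Finset.sum_congr rfl (g := fun _ => F (v • χ)) (fun u hu => by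
    rw [(Finset.mem_filter.1 hu).2]), Finset.sum_const, nsmul_eq_mul, hcard]

/-- The sum of the conjugates is divisible by the `p`-part of their number. -/
theorem memRing_trace_div {M : Ideal AlgInt} (hM : IsPModular p M)
    (ha : 0 < (Nat.card G).factorization p) (χ : IrrCharacter G) (g : G) :
    MemLocalRing M ((∑ ψ ∈ conjSet p χ, (ψ : G → ℂ) g) /
      (p : ℂ) ^ (conjSet p χ).card.factorization p) := by
  obtain ⟨w, hw, hws⟩ := sum_exponents_apply (p := p) ha χ g
  set S := Nat.card (MulAction.stabilizer (exponents p G) χ)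
  set r := (conjSet p χ).card with hr
  have hS : S ≠ 0 := Nat.card_pos.ne'
  have hr0 : r ≠ 0 := Finset.card_ne_zero.2 ⟨χ, (mem_conjSet χ χ).2 ⟨1, one_smul _ χ⟩⟩
  have hfac : S.factorization p + r.factorization p = (Nat.card G).factorization p - 1 := by
    have h1 : r * S = Nat.card (exponents p G) := by
      rw [hr, card_conjSet, ← Nat.card_prod,
        Nat.card_congr (MulAction.orbitProdStabilizerEquivGroup (exponents p G) χ)]
    rw [card_exponents, Nat.totient_prime_pow hp.out ha] at h1
    have h2 := congrArg (fun m => m.factorization p) h1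
    simp only [Nat.factorization_mul hr0 hS, Nat.factorization_mul
      (pow_ne_zero _ hp.out.ne_zero) (Nat.sub_ne_zero_of_lt hp.out.one_lt), Finsupp.add_apply,
      hp.out.factorization_pow, Finsupp.single_eq_same] at h2
    rw [Nat.factorization_eq_zero_of_not_dvd (n := p - 1) (fun hd => absurd
      (Nat.le_of_dvd (Nat.sub_pos_of_lt hp.out.one_lt) hd) (by have := hp.out.pos; omega)),
      add_zero] at h2
    omega
  rw [sum_exponents_eq χ (fun ψ => (ψ : G → ℂ) g)] at hws
  have heq : (∑ ψ ∈ conjSet p χ, (ψ : G → ℂ) g) / (p : ℂ) ^ r.factorization p =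
      (((p ^ ((Nat.card G).factorization p - 1) : ℕ) : ℂ) /
        ((S * p ^ r.factorization p : ℕ) : ℂ)) * w := by
    push_cast
    rw [div_mul_eq_mul_div, ← hws, mul_div_mul_left _ _ (Nat.cast_ne_zero.2 hS)]
  rw [heq]
  refine memRing_mul hM (natCast_div_memRing hM (mul_ne_zero hS (pow_ne_zero _ hp.out.ne_zero))
    (Or.inr ?_)) (memRing_algInt hM hw)
  rw [Nat.factorization_mul hS (pow_ne_zero _ hp.out.ne_zero), Finsupp.add_apply,
    hp.out.factorization_pow, hp.out.factorization_pow, Finsupp.single_eq_same,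
    Finsupp.single_eq_same, hfac]

theorem main (χ : IrrCharacter G) :
    ((conjSet p χ).card * charDegree (χ : G → ℂ)).factorization p ≤
        (Nat.card G).factorization p ∧
      (p ^ (Nat.card G).factorization p ∣ (conjSet p χ).card * charDegree (χ : G → ℂ) →
        p ^ (Nat.card G).factorization p ∣ charDegree (χ : G → ℂ)) := by
  haveI := Fintype.ofFinite G
  haveI := Fintype.ofFinite (ConjClasses G)
  set a := (Nat.card G).factorization p with hadef
  set r := (conjSet p χ).card with hr
  set n := charDegree (χ : G → ℂ) with hn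
  have hn0 : n ≠ 0 := (deg_pos χ).ne'
  have hr0 : r ≠ 0 := Finset.card_ne_zero.2 ⟨χ, (mem_conjSet χ χ).2 ⟨1, one_smul _ χ⟩⟩
  have hna : n.factorization p ≤ a :=
    ((Nat.factorization_le_iff_dvd hn0 Nat.card_pos.ne').2 (deg_dvd_card χ)) p
  have hrn : (r * n).factorization p = r.factorization p + n.factorization p := by
    rw [Nat.factorization_mul hr0 hn0, Finsupp.add_apply]
  rcases Nat.eq_zero_or_pos a with ha | ha
  · have hcard1 : r = 1 := by
      have h1 : Nat.card (exponents p G) = 1 := by
        rw [card_exponents, ← hadef, ha, pow_zero, Nat.totient_one]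
      have h2 : r ∣ 1 := by
        rw [← h1, hr, card_conjSet, ← Nat.card_congr
          (MulAction.orbitProdStabilizerEquivGroup (exponents p G) χ), Nat.card_prod]
        exact dvd_mul_right _ _
      exact Nat.dvd_one.1 h2
    rw [hrn, hcard1, Nat.factorization_one, Finsupp.coe_zero, Pi.zero_apply, zero_add, one_mul]
    exact ⟨hna, id⟩
  obtain ⟨M, hM⟩ := exists_isPModular hp.out
  haveI : M.IsMaximal := hM.2.1
  set Ψ : G → ℂ := fun g => ∑ ψ ∈ conjSet p χ, (ψ : G → ℂ) g with hΨ
  -- the inner product with `χ`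
  have hinner : ∑ g : G, conj ((χ : G → ℂ) g) * Ψ g = (Nat.card G : ℂ) := by
    have h1 : ∀ ψ ∈ conjSet p χ, ∑ g : G, conj ((χ : G → ℂ) g) * (ψ : G → ℂ) g =
        if ψ = χ then (Nat.card G : ℂ) else 0 := by
      intro ψ _
      have h2 := classInner_irrCharacter ψ χ
      rw [Cfsg.classInner, inv_mul_eq_iff_eq_mul₀ (Nat.cast_ne_zero.2 Nat.card_pos.ne')] at h2
      rw [Finset.sum_congr rfl fun g _ => mul_comm _ _, h2]
      split_ifs <;> simp
    simp only [hΨ, Finset.mul_sum]
    rw [Finset.sum_comm, Finset.sum_congr rfl h1, Finset.sum_ite_eq',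
      if_pos ((mem_conjSet χ χ).2 ⟨1, one_smul _ χ⟩)]
  have hbound : r.factorization p + n.factorization p ≤ a := by
    have hmem : MemLocalRing M
        ((Nat.card G : ℂ) / ((n * p ^ r.factorization p : ℕ) : ℂ)) := by
      rw [← hinner, CfsgLib.Blocks.sum_eq_sum_classes _ (fun u x => by
        simp only [hΨ, IsIrrCharacter.isClassFunction χ.2 x u]
        exact congrArg _ (Finset.sum_congr rfl fun ψ _ => IsIrrCharacter.isClassFunction ψ.2 x u)),
        Finset.sum_div]
      refine memRing_sum hM _ fun C _ => ?_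
      have h1 : ((Subgroup.centralizer ({Quotient.out C} : Set G)).index •
          (conj ((χ : G → ℂ) (Quotient.out C)) * Ψ (Quotient.out C))) /
            ((n * p ^ r.factorization p : ℕ) : ℂ) =
          conj (centralChar (χ : G → ℂ) (Quotient.out C)) *
            (Ψ (Quotient.out C) / (p : ℂ) ^ r.factorization p) := by
        rw [centralChar, nsmul_eq_mul, map_div₀, map_mul, Complex.conj_natCast,
          ← deg_cast χ, Complex.conj_natCast, ← hn]
        push_cast
        field_simp
      rw [h1]
      refine memRing_mul hM (memRing_algInt hM ?_) (memRing_trace_div hM ha χ _)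
      exact (CfsgLib.Blocks.centralChar_isIntegral χ _).map (starRingEnd ℂ).toIntAlgHom
    have h2 := factorization_le_of_memRing hM Nat.card_pos.ne'
      (mul_ne_zero hn0 (pow_ne_zero _ hp.out.ne_zero)) hmem
    rw [Nat.factorization_mul hn0 (pow_ne_zero _ hp.out.ne_zero), Finsupp.add_apply,
      hp.out.factorization_pow, Finsupp.single_eq_same] at h2
    omega
  refine ⟨by rw [hrn]; exact hbound, fun hdvd => ?_⟩
  have heq : r.factorization p + n.factorization p = a := by
    refine le_antisymm hbound ?_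
    rw [← hrn]
    exact (hp.out.pow_dvd_iff_le_factorization (mul_ne_zero hr0 hn0)).1 hdvd
  set A : Set (IrrCharacter G) := (conjSet p χ : Set (IrrCharacter G)) with hA
  have hcoeff : ∀ g, blockCoeff A g = (Nat.card G : ℂ)⁻¹ * ((n : ℂ) * Ψ g⁻¹) := by
    intro g
    rw [blockCoeff, hA, finsum_mem_coe_finset]
    congr 1
    simp only [hΨ, Finset.mul_sum]
    exact Finset.sum_congr rfl fun ψ hψ => by
      rw [apply_one_of_mem χ hψ, ← deg_cast χ, ← hn, ← char_inv ψ g]
  have hint : ∀ g, blockCoeff A g ∈ CfsgLib.Blocks.locRing M := by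
    intro g
    show MemLocalRing M _
    have h1 : blockCoeff A g = ((n * p ^ r.factorization p : ℕ) : ℂ) / (Nat.card G : ℂ) *
        (Ψ g⁻¹ / (p : ℂ) ^ r.factorization p) := by
      rw [hcoeff]
      have : ((p : ℂ)) ^ r.factorization p ≠ 0 := pow_ne_zero _ (Nat.cast_ne_zero.2 hp.out.ne_zero)
      push_cast
      field_simp
    rw [h1]
    refine memRing_mul hM (natCast_div_memRing hM Nat.card_pos.ne' (Or.inr ?_))
      (memRing_trace_div hM ha χ _)
    rw [Nat.factorization_mul hn0 (pow_ne_zero _ hp.out.ne_zero), Finsupp.add_apply,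
      hp.out.factorization_pow, Finsupp.single_eq_same, ← hadef]
    omega
  have hvan : ∀ z : G, p ∣ orderOf z → Ψ z = 0 := by
    intro z hz
    have h0 : blockCoeff A z⁻¹ = 0 := by
      rw [blockCoeff, hA, finsum_mem_coe_finset,
        ← Finset.sum_fiberwise_of_maps_to
          (g := fun ψ : IrrCharacter G => blockOf M (ψ : G → ℂ))
          (t := (conjSet p χ).image fun ψ : IrrCharacter G => blockOf M (ψ : G → ℂ))
          (fun ψ hψ => Finset.mem_image_of_mem _ hψ), Finset.mul_sum]
      refine Finset.sum_eq_zero fun B hB => ?_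
      obtain ⟨ψ, hψ, rfl⟩ := Finset.mem_image.1 hB
      have hBA := CfsgLib.Blocks.blockOf_subset_of_memLocalRing hint
        (show ψ ∈ A from Finset.mem_coe.2 hψ)
      have h1 := blockCoeff_singular hM (CfsgLib.Blocks.isPBlock_blockOf ψ) z⁻¹
        (by rw [orderOf_inv]; exact hz)
      refine Eq.trans ?_ h1
      rw [blockCoeff, finsum_mem_eq_toFinset_sum]
      congr 1
      refine Finset.sum_congr ?_ fun _ _ => rfl
      ext φ
      rw [Finset.mem_filter, Set.mem_toFinset]
      constructor
      · rintro ⟨-, hφ⟩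
        rw [← hφ]
        exact CfsgLib.Blocks.mem_blockOf_self φ
      · intro hφ
        exact ⟨Finset.mem_coe.1 (hBA hφ),
          (CfsgLib.Blocks.IsPBlock.eq_blockOf (CfsgLib.Blocks.isPBlock_blockOf ψ) hφ).symm⟩
    rw [hcoeff, inv_inv, mul_eq_zero, inv_eq_zero, mul_eq_zero, Nat.cast_eq_zero,
      Nat.cast_eq_zero] at h0
    exact (h0.resolve_left Nat.card_pos.ne').resolve_left hn0
  have hsum : ∑ g ∈ Finset.univ.filter (fun g : G => orderOf g = p), (χ : G → ℂ) g = 0 := by
    have h1 : ∑ g ∈ Finset.univ.filter (fun g : G => orderOf g = p), Ψ g = 0 :=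
      Finset.sum_eq_zero fun g hg => hvan g ((Finset.mem_filter.1 hg).2 ▸ dvd_rfl)
    rw [hΨ, Finset.sum_comm, Finset.sum_congr rfl (g := fun _ =>
      ∑ g ∈ Finset.univ.filter (fun g : G => orderOf g = p), (χ : G → ℂ) g) (fun ψ hψ => ?_),
      Finset.sum_const, nsmul_eq_mul, mul_eq_zero, Nat.cast_eq_zero, ← hr] at h1
    · exact h1.resolve_left hr0
    · obtain ⟨u, rfl⟩ := (mem_conjSet χ ψ).1 hψ
      have hk : (Nat.card G).Coprime (u.1 : ZMod (Nat.card G)).val :=
        (ZMod.val_coe_unit_coprime u.1).symm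
      refine Finset.sum_equiv (powCoprime hk) (fun g => ?_) (fun g _ => rfl)
      simp only [Finset.mem_filter, Finset.mem_univ, true_and]
      show orderOf g = p ↔ orderOf (g ^ (u.1 : ZMod (Nat.card G)).val) = p
      rw [Nat.Coprime.orderOf_pow (hk.coprime_dvd_left (orderOf_dvd_natCard g))]
  have hfinal := CfsgLib.Blocks.factorization_deg_of_sum_eq_zero χ hsum
  exact (hp.out.pow_dvd_iff_le_factorization hn0).2 hfinal.ge

end CfsgLib.PConjugate
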